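import Mathlib.Data.Nat.Notation

/-! The generators of the Thompson group as words in the root elements, last letter first. -/

set_option autoImplicit false

namespace Cfsg.Agent.ThE8

/-- The word of a. -/
def wordA : List (ℕ × ℕ) := [
  (121, 2), (118, 1), (121, 2), (121, 2), (118, 1), (121, 2), (141, 2), (98, 1), (141, 2), (141, 2),
  (98, 1), (141, 2), (121, 1), (121, 2), (118, 1), (121, 2), (126, 1), (126, 2), (113, 1), (126, 2),
  (126, 1), (135, 2), (135, 2), (104, 1), (135, 2), (135, 1), (141, 2), (98, 1), (141, 2), (141, 2),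
  (152, 2), (143, 2), (137, 2), (136, 2), (131, 2), (130, 1), (152, 2), (87, 1), (152, 2), (130, 2),
  (109, 1), (130, 2), (143, 2), (137, 2), (135, 1), (159, 2), (157, 2), (156, 2), (154, 1), (153, 2),
  (149, 1), (138, 1), (132, 1), (128, 1), (127, 2), (159, 2), (80, 1), (159, 2), (123, 2), (116, 1),
  (123, 2), (157, 2), (159, 2), (156, 2), (150, 1), (145, 1), (139, 1), (148, 2), (137, 2), (128, 2),
  (126, 2), (121, 2), (226, 1), (214, 1), (207, 2), (200, 1), (204, 1), (191, 2), (194, 2), (188, 1),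
  (186, 1), (185, 2), (178, 1), (184, 2), (175, 2), (174, 1), (167, 2), (166, 1), (169, 2), (165, 1),
  (162, 2), (226, 2), (13, 1), (226, 2), (162, 2), (77, 1), (162, 2), (219, 2), (226, 2), (214, 2),
  (207, 2), (200, 2), (205, 1), (197, 2), (195, 1), (189, 2), (188, 1), (159, 1), (185, 2), (157, 1),
  (184, 1), (156, 2), (154, 2), (153, 1), (149, 1), (148, 1), (138, 2), (147, 1), (136, 1), (135, 1),
  (239, 2), (237, 2), (236, 1), (235, 2), (234, 1), (232, 1), (231, 1), (225, 1), (230, 1), (224, 2),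
  (229, 2), (222, 1), (227, 2), (221, 2), (220, 2), (203, 1), (209, 1), (202, 1), (199, 2), (206, 1),
  (198, 1), (196, 2), (192, 2), (183, 1), (182, 1), (161, 2), (187, 1), (180, 1), (177, 1), (173, 1),
  (155, 2), (168, 1), (151, 2), (146, 1), (134, 2), (129, 2), (125, 2), (122, 2), (239, 2), (0, 1),
  (239, 2), (239, 2), (237, 1), (236, 1), (234, 1), (233, 2), (232, 1), (231, 1), (225, 2), (230, 2),
  (224, 2), (228, 1), (222, 2), (218, 2), (227, 1), (221, 1), (217, 2), (220, 2), (213, 2), (215, 2),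
  (212, 1), (211, 1), (209, 2), (202, 2), (206, 1), (198, 1), (193, 1), (183, 2), (182, 1), (161, 2),
  (187, 1), (180, 1), (158, 1), (173, 1), (155, 2), (168, 1), (146, 2), (140, 1), (134, 1), (129, 2),
  (122, 2), (120, 1)]

/-- The word of b. -/
def wordB : List (ℕ × ℕ) := [
  (120, 2), (119, 1), (120, 2), (120, 2), (119, 1), (120, 2), (126, 2), (113, 1), (126, 2), (126, 2),
  (113, 1), (126, 2), (130, 2), (109, 1), (130, 2), (130, 2), (109, 1), (130, 2), (135, 2), (104, 1),
  (135, 2), (135, 2), (104, 1), (135, 2), (141, 2), (98, 1), (141, 2), (141, 2), (98, 1), (141, 2),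
  (121, 1), (121, 2), (118, 1), (121, 2), (121, 2), (126, 2), (113, 1), (126, 2), (135, 1), (135, 2),
  (104, 1), (135, 2), (141, 1), (141, 2), (98, 1), (141, 2), (141, 1), (152, 2), (148, 1), (147, 1),
  (137, 2), (142, 1), (136, 2), (131, 2), (130, 2), (152, 2), (87, 1), (152, 2), (152, 1), (148, 1),
  (147, 1), (137, 1), (142, 2), (136, 2), (131, 1), (130, 1), (159, 2), (157, 2), (153, 1), (150, 1),
  (144, 1), (133, 2), (128, 2), (127, 2), (157, 2), (82, 1), (157, 2), (138, 2), (101, 1), (138, 2),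
  (157, 2), (156, 1), (139, 1), (131, 2), (226, 2), (219, 2), (214, 2), (207, 2), (205, 1), (204, 2),
  (194, 2), (189, 2), (181, 1), (188, 2), (186, 1), (185, 1), (178, 2), (176, 1), (184, 2), (175, 1),
  (172, 1), (167, 2), (170, 1), (169, 2), (164, 1), (163, 2), (162, 1), (226, 2), (13, 1), (226, 2),
  (219, 2), (200, 1), (205, 1), (195, 1), (191, 2), (194, 2), (189, 1), (181, 1), (186, 1), (185, 1),
  (176, 1), (175, 2), (172, 1), (174, 1), (170, 1), (164, 1), (162, 1), (239, 2), (238, 2), (237, 2),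
  (236, 2), (235, 2), (234, 2), (233, 1), (232, 2), (225, 1), (230, 2), (224, 1), (223, 2), (228, 2),
  (222, 2), (218, 1), (227, 1), (217, 1), (220, 1), (213, 1), (215, 1), (212, 2), (211, 1), (202, 1),
  (208, 1), (201, 1), (199, 2), (206, 2), (192, 1), (183, 1), (190, 2), (182, 1), (180, 2), (160, 2),
  (177, 1), (158, 2), (173, 2), (155, 1), (151, 1), (140, 2), (134, 2), (129, 2), (125, 2), (122, 2),
  (239, 2), (0, 1), (239, 2), (129, 2), (110, 1), (129, 2), (235, 1), (239, 1), (238, 2), (237, 2),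
  (236, 2), (233, 2), (231, 2), (225, 2), (229, 2), (228, 1), (222, 1), (221, 2), (226, 1), (220, 2),
  (219, 1), (215, 2), (214, 1), (208, 2), (199, 2), (206, 2), (198, 1), (197, 2), (204, 2), (194, 1),
  (187, 2), (177, 1), (176, 2), (184, 2), (175, 2), (174, 1), (153, 2), (164, 1), (147, 2), (142, 2),
  (136, 2), (130, 2)]

/-- The word of c. -/
def wordC : List (ℕ × ℕ) := [
  (121, 2), (118, 1), (121, 2), (121, 2), (118, 1), (121, 2), (130, 2), (109, 1), (130, 2), (130, 2),
  (109, 1), (130, 2), (141, 2), (98, 1), (141, 2), (141, 2), (98, 1), (141, 2), (162, 2), (77, 1),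
  (162, 2), (162, 2), (77, 1), (162, 2), (121, 2), (121, 2), (118, 1), (121, 2), (121, 1), (135, 2),
  (135, 2), (104, 1), (135, 2), (135, 1), (141, 2), (141, 2), (98, 1), (141, 2), (141, 2), (147, 1),
  (143, 1), (142, 1), (136, 2), (131, 1), (152, 2), (87, 1), (152, 2), (152, 1), (147, 2), (143, 2),
  (137, 2), (136, 2), (130, 1), (157, 1), (149, 2), (145, 1), (139, 2), (144, 1), (138, 2), (133, 2),
  (127, 2), (124, 2), (123, 1), (159, 2), (80, 1), (159, 2), (159, 1), (157, 2), (156, 1), (154, 2),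
  (153, 1), (150, 2), (149, 1), (139, 1), (144, 1), (138, 2), (133, 1), (127, 2), (124, 2), (226, 2),
  (214, 2), (210, 2), (207, 1), (197, 2), (204, 1), (191, 1), (194, 1), (189, 1), (186, 1), (185, 1),
  (176, 2), (184, 1), (172, 1), (167, 2), (166, 1), (165, 2), (164, 1), (226, 2), (13, 1), (226, 2),
  (162, 2), (77, 1), (162, 2), (219, 1), (226, 1), (214, 1), (210, 1), (207, 2), (200, 2), (205, 1),
  (197, 2), (204, 1), (195, 1), (191, 1), (189, 2), (188, 1), (159, 1), (157, 1), (184, 1), (156, 2),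
  (154, 1), (153, 2), (150, 1), (149, 1), (139, 1), (148, 2), (138, 2), (147, 1), (136, 2), (135, 1),
  (239, 1), (238, 2), (237, 1), (236, 1), (235, 2), (234, 1), (232, 2), (230, 1), (229, 1), (223, 1),
  (228, 1), (222, 1), (218, 2), (227, 2), (221, 2), (217, 2), (216, 2), (213, 1), (215, 1), (212, 2),
  (203, 2), (209, 2), (202, 1), (199, 2), (198, 2), (193, 2), (196, 2), (192, 2), (183, 2), (190, 1),
  (182, 2), (161, 2), (180, 2), (160, 2), (177, 1), (173, 2), (155, 2), (168, 2), (151, 1), (134, 1),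
  (129, 2), (125, 2), (122, 1), (120, 2), (239, 2), (0, 1), (239, 2), (239, 1), (238, 1), (237, 1),
  (236, 1), (235, 2), (234, 2), (231, 2), (225, 2), (230, 1), (224, 1), (229, 1), (222, 2), (218, 2),
  (221, 2), (217, 2), (216, 2), (213, 2), (215, 2), (212, 1), (211, 1), (201, 2), (199, 2), (206, 2),
  (198, 2), (193, 1), (196, 2), (183, 1), (190, 2), (182, 1), (187, 2), (180, 2), (160, 2), (177, 2),
  (173, 2), (168, 2), (151, 1), (146, 2), (134, 2), (129, 1), (120, 1)]

/-- The word of d. -/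
def wordD : List (ℕ × ℕ) := [
  (121, 2), (118, 1), (121, 2), (121, 2), (118, 1), (121, 2), (130, 2), (109, 1), (130, 2), (130, 2),
  (109, 1), (130, 2), (141, 2), (98, 1), (141, 2), (141, 2), (98, 1), (141, 2), (121, 2), (118, 1),
  (121, 2), (126, 2), (113, 1), (126, 2), (135, 1), (135, 2), (104, 1), (135, 2), (135, 1), (141, 1),
  (141, 2), (98, 1), (141, 2), (141, 1), (148, 1), (147, 2), (137, 2), (136, 2), (131, 2), (152, 2),
  (87, 1), (152, 2), (152, 2), (148, 1), (147, 2), (143, 1), (142, 2), (136, 1), (159, 2), (157, 2),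
  (154, 1), (153, 2), (150, 1), (145, 1), (139, 1), (144, 1), (133, 1), (132, 2), (128, 2), (127, 2),
  (123, 2), (159, 2), (80, 1), (159, 2), (159, 1), (157, 1), (156, 1), (154, 1), (150, 1), (139, 1),
  (144, 2), (138, 2), (133, 2), (132, 2), (127, 2), (124, 2), (226, 2), (219, 1), (214, 2), (210, 2),
  (207, 1), (205, 1), (197, 1), (194, 1), (181, 2), (188, 2), (186, 2), (179, 2), (185, 1), (178, 1),
  (175, 1), (174, 2), (167, 2), (170, 1), (169, 2), (165, 2), (164, 2), (162, 2), (226, 2), (13, 1),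
  (226, 2), (219, 1), (200, 2), (205, 2), (197, 1), (204, 1), (195, 2), (191, 2), (194, 2), (189, 2),
  (188, 1), (186, 1), (179, 2), (185, 2), (176, 2), (184, 1), (175, 1), (172, 1), (171, 1), (170, 2),
  (169, 2), (163, 2), (162, 1), (239, 2), (238, 1), (237, 1), (236, 1), (235, 2), (232, 2), (225, 1),
  (230, 1), (224, 2), (229, 2), (222, 2), (218, 1), (227, 2), (221, 2), (217, 2), (220, 1), (216, 2),
  (215, 2), (211, 1), (209, 2), (202, 2), (208, 1), (201, 2), (206, 2), (198, 2), (193, 2), (196, 2),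
  (192, 2), (183, 2), (190, 2), (182, 2), (161, 2), (187, 2), (180, 2), (177, 1), (158, 1), (168, 1),
  (140, 2), (134, 1), (129, 2), (122, 2), (120, 2), (239, 2), (0, 1), (239, 2), (239, 1), (238, 2),
  (237, 1), (236, 2), (232, 1), (230, 1), (229, 1), (228, 1), (222, 2), (227, 1), (221, 1), (220, 2),
  (215, 2), (203, 2), (211, 1), (199, 2), (206, 1), (198, 2), (182, 1), (161, 1), (187, 2), (180, 2),
  (160, 1), (177, 2), (173, 2), (168, 2), (146, 1), (140, 1), (134, 1), (125, 2), (120, 2)]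

/-- The word of e. -/
def wordE : List (ℕ × ℕ) := [
  (126, 2), (113, 1), (126, 2), (126, 2), (113, 1), (126, 2), (162, 2), (77, 1), (162, 2), (162, 2),
  (77, 1), (162, 2), (121, 2), (121, 2), (118, 1), (121, 2), (121, 1), (126, 1), (126, 2), (113, 1),
  (126, 2), (135, 2), (135, 2), (104, 1), (135, 2), (141, 2), (98, 1), (141, 2), (152, 1), (148, 1),
  (142, 1), (131, 2), (152, 2), (87, 1), (152, 2), (130, 2), (109, 1), (130, 2), (152, 2), (147, 1),
  (137, 1), (135, 2), (126, 2), (159, 2), (157, 1), (156, 1), (153, 1), (150, 2), (149, 2), (145, 2),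
  (139, 2), (144, 1), (138, 2), (132, 2), (128, 2), (127, 2), (124, 1), (123, 1), (159, 2), (80, 1),
  (159, 2), (159, 1), (156, 1), (154, 1), (153, 2), (150, 1), (149, 2), (145, 2), (139, 2), (144, 1),
  (138, 2), (128, 2), (127, 2), (124, 2), (123, 1), (214, 2), (210, 2), (207, 2), (200, 2), (191, 1),
  (189, 2), (181, 2), (188, 1), (185, 2), (178, 1), (176, 2), (184, 1), (174, 2), (171, 1), (169, 1),
  (164, 1), (163, 2), (162, 1), (226, 2), (13, 1), (226, 2), (162, 2), (77, 1), (162, 2), (219, 1),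
  (226, 1), (214, 1), (210, 2), (207, 1), (200, 1), (205, 1), (195, 2), (189, 2), (188, 2), (186, 1),
  (159, 2), (185, 2), (157, 2), (156, 1), (154, 2), (153, 2), (150, 1), (152, 1), (148, 2), (138, 1),
  (147, 1), (137, 1), (135, 2), (239, 2), (238, 1), (236, 2), (235, 2), (234, 1), (233, 2), (232, 1),
  (231, 2), (225, 1), (224, 1), (229, 2), (223, 1), (222, 2), (227, 2), (221, 1), (217, 1), (220, 2),
  (216, 1), (213, 1), (215, 2), (212, 1), (203, 2), (202, 2), (208, 1), (206, 1), (196, 1), (190, 1),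
  (182, 2), (180, 2), (160, 2), (158, 2), (173, 2), (168, 2), (151, 2), (146, 1), (134, 2), (125, 1),
  (120, 1), (239, 2), (0, 1), (239, 2), (238, 2), (237, 2), (236, 2), (235, 1), (234, 1), (233, 1),
  (232, 1), (231, 1), (230, 1), (224, 1), (229, 2), (223, 2), (218, 2), (227, 1), (217, 2), (213, 1),
  (212, 1), (209, 1), (202, 1), (208, 2), (201, 2), (199, 1), (198, 1), (193, 1), (196, 2), (192, 1),
  (183, 1), (190, 2), (182, 1), (180, 2), (177, 2), (158, 1), (173, 2), (155, 2), (151, 1), (146, 2),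
  (140, 2), (134, 1), (129, 2), (125, 1), (122, 2), (120, 1)]

/-- The word of s. -/
def wordS : List (ℕ × ℕ) := [
  (123, 2), (116, 1), (123, 2), (123, 2), (116, 1), (123, 2), (126, 2), (113, 1), (126, 2), (126, 2),
  (113, 1), (126, 2), (141, 2), (98, 1), (141, 2), (141, 2), (98, 1), (141, 2), (121, 1), (121, 2),
  (118, 1), (121, 2), (121, 2), (126, 1), (126, 2), (113, 1), (126, 2), (126, 2), (135, 1), (141, 1),
  (141, 2), (98, 1), (141, 2), (141, 2), (152, 1), (143, 2), (142, 1), (136, 2), (131, 2), (130, 2),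
  (152, 2), (87, 1), (152, 2), (152, 2), (148, 1), (147, 2), (143, 1), (137, 2), (131, 2), (159, 1),
  (157, 2), (154, 2), (133, 1), (132, 1), (128, 1), (127, 1), (124, 2), (123, 1), (159, 2), (80, 1),
  (159, 2), (123, 2), (116, 1), (123, 2), (156, 2), (154, 2), (150, 2), (152, 2), (145, 2), (148, 2),
  (133, 2), (128, 1), (126, 2), (121, 1), (226, 2), (219, 2), (210, 1), (207, 2), (200, 1), (204, 1),
  (194, 1), (189, 1), (181, 1), (188, 2), (186, 1), (185, 2), (178, 2), (176, 2), (184, 1), (175, 2),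
  (174, 2), (171, 1), (167, 2), (170, 2), (166, 1), (169, 2), (164, 2), (163, 2), (226, 2), (13, 1),
  (226, 2), (164, 2), (75, 1), (164, 2), (210, 2), (226, 2), (219, 1), (214, 2), (200, 2), (205, 1),
  (204, 1), (191, 1), (189, 2), (188, 1), (179, 1), (178, 1), (157, 1), (172, 1), (156, 2), (150, 1),
  (149, 1), (145, 2), (148, 1), (144, 2), (143, 2), (128, 2), (127, 1), (141, 2), (126, 2), (239, 1),
  (237, 2), (236, 2), (235, 2), (233, 1), (232, 2), (224, 1), (229, 2), (223, 1), (228, 2), (227, 1),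
  (221, 1), (217, 1), (216, 2), (215, 1), (212, 2), (209, 1), (202, 1), (208, 2), (201, 1), (206, 2),
  (198, 1), (193, 1), (192, 2), (183, 1), (190, 2), (182, 2), (161, 2), (187, 2), (180, 1), (160, 2),
  (177, 1), (158, 2), (168, 1), (151, 1), (146, 2), (140, 2), (134, 2), (129, 2), (120, 2), (239, 2),
  (0, 1), (239, 2), (120, 2), (119, 1), (120, 2), (238, 1), (239, 2), (237, 2), (236, 1), (234, 2),
  (231, 2), (230, 1), (229, 1), (223, 1), (222, 1), (221, 1), (217, 1), (216, 2), (219, 2), (212, 1),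
  (203, 1), (202, 1), (199, 1), (207, 1), (200, 2), (193, 2), (205, 1), (183, 1), (195, 1), (161, 2),
  (189, 2), (186, 2), (176, 2), (154, 2), (167, 2), (133, 2), (128, 1), (124, 1), (121, 2)]

/-- The word of t. -/
def wordT : List (ℕ × ℕ) := [
  (120, 2), (119, 1), (120, 2), (120, 2), (119, 1), (120, 2), (121, 2), (118, 1), (121, 2), (121, 2),
  (118, 1), (121, 2), (130, 2), (109, 1), (130, 2), (130, 2), (109, 1), (130, 2), (135, 2), (104, 1),
  (135, 2), (135, 2), (104, 1), (135, 2), (121, 2), (118, 1), (121, 2), (121, 2), (126, 2), (126, 2),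
  (113, 1), (126, 2), (135, 2), (135, 2), (104, 1), (135, 2), (135, 2), (141, 2), (98, 1), (141, 2),
  (141, 1), (152, 2), (147, 2), (143, 2), (137, 2), (142, 2), (136, 2), (131, 2), (152, 2), (87, 1),
  (152, 2), (152, 2), (148, 1), (147, 1), (143, 1), (137, 2), (136, 1), (131, 2), (130, 1), (159, 1),
  (157, 1), (156, 2), (154, 2), (153, 1), (150, 1), (149, 1), (145, 1), (139, 1), (144, 1), (138, 2),
  (133, 1), (127, 1), (124, 1), (159, 2), (80, 1), (159, 2), (127, 2), (112, 1), (127, 2), (157, 2),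
  (152, 2), (145, 2), (133, 1), (147, 1), (136, 1), (124, 1), (130, 1), (121, 1), (226, 2), (219, 2),
  (210, 2), (207, 1), (200, 2), (205, 2), (197, 2), (195, 2), (191, 2), (194, 2), (186, 1), (179, 1),
  (178, 2), (175, 2), (172, 2), (174, 1), (167, 1), (170, 1), (166, 2), (169, 1), (165, 2), (164, 1),
  (163, 1), (162, 2), (226, 2), (13, 1), (226, 2), (226, 2), (219, 2), (214, 2), (210, 2), (200, 2),
  (197, 1), (204, 1), (195, 2), (191, 2), (189, 1), (181, 2), (186, 1), (179, 1), (176, 2), (175, 2),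
  (172, 2), (171, 2), (167, 1), (170, 2), (165, 2), (163, 1), (239, 2), (238, 1), (237, 2), (234, 2),
  (231, 1), (225, 2), (230, 2), (224, 1), (229, 1), (228, 1), (222, 1), (218, 1), (227, 2), (220, 2),
  (213, 1), (212, 1), (209, 1), (202, 2), (201, 2), (199, 1), (196, 2), (183, 1), (182, 2), (161, 2),
  (187, 1), (180, 2), (177, 2), (158, 1), (173, 1), (155, 1), (151, 2), (146, 2), (134, 2), (129, 1),
  (125, 1), (122, 1), (120, 1), (239, 2), (0, 1), (239, 2), (238, 2), (237, 2), (236, 1), (235, 1),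
  (233, 1), (232, 1), (231, 1), (225, 2), (230, 2), (229, 2), (223, 2), (228, 1), (218, 1), (227, 1),
  (221, 2), (217, 2), (216, 1), (212, 2), (203, 1), (208, 1), (201, 2), (199, 2), (206, 1), (198, 2),
  (183, 1), (190, 1), (182, 2), (187, 1), (160, 1), (173, 1), (168, 2), (151, 1), (146, 2), (140, 1),
  (134, 1), (125, 2), (122, 1), (120, 1)]

/-- The word of u. -/
def wordU : List (ℕ × ℕ) := [
  (120, 2), (119, 1), (120, 2), (120, 2), (119, 1), (120, 2), (130, 2), (109, 1), (130, 2), (130, 2),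
  (109, 1), (130, 2), (135, 2), (104, 1), (135, 2), (135, 2), (104, 1), (135, 2), (121, 2), (118, 1),
  (121, 2), (126, 2), (113, 1), (126, 2), (126, 2), (135, 1), (141, 2), (98, 1), (141, 2), (152, 2),
  (143, 2), (137, 1), (142, 2), (136, 1), (131, 2), (130, 1), (152, 2), (87, 1), (152, 2), (136, 2),
  (103, 1), (136, 2), (143, 2), (148, 2), (142, 2), (141, 2), (126, 2), (159, 1), (157, 2), (156, 2),
  (150, 2), (145, 2), (139, 2), (144, 1), (133, 1), (132, 2), (128, 1), (127, 2), (123, 1), (159, 2),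
  (80, 1), (159, 2), (159, 1), (157, 1), (156, 1), (150, 2), (149, 2), (145, 1), (144, 2), (133, 1),
  (132, 1), (127, 2), (124, 2), (226, 2), (219, 1), (207, 2), (197, 2), (191, 2), (194, 1), (189, 1),
  (181, 2), (188, 2), (186, 2), (179, 1), (178, 2), (184, 1), (175, 1), (172, 2), (174, 1), (166, 1),
  (169, 1), (165, 2), (164, 2), (163, 1), (226, 2), (13, 1), (226, 2), (226, 2), (219, 2), (214, 2),
  (210, 2), (200, 2), (205, 2), (195, 2), (194, 2), (189, 1), (181, 1), (188, 2), (178, 2), (176, 2),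
  (184, 1), (175, 1), (174, 2), (171, 1), (170, 2), (166, 2), (165, 2), (164, 2), (163, 2), (162, 1),
  (238, 2), (237, 2), (236, 1), (235, 2), (233, 1), (232, 1), (231, 2), (230, 1), (224, 1), (229, 1),
  (223, 1), (228, 2), (221, 2), (217, 1), (216, 2), (213, 2), (215, 1), (203, 2), (211, 1), (202, 2),
  (208, 2), (201, 1), (199, 1), (198, 1), (193, 2), (196, 1), (192, 2), (183, 1), (190, 2), (187, 1),
  (180, 1), (158, 1), (151, 2), (146, 2), (140, 2), (129, 2), (125, 2), (122, 1), (120, 1), (239, 2),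
  (0, 1), (239, 2), (239, 2), (238, 1), (237, 2), (236, 1), (233, 1), (232, 1), (225, 2), (230, 1),
  (224, 2), (229, 1), (223, 1), (228, 1), (227, 2), (221, 1), (217, 1), (220, 2), (215, 1), (212, 1),
  (211, 1), (209, 2), (202, 1), (208, 1), (199, 1), (206, 2), (196, 2), (182, 1), (161, 2), (187, 2),
  (160, 1), (177, 1), (173, 1), (151, 1), (146, 2), (140, 1), (134, 1), (125, 1), (120, 1)]

end Cfsg.Agent.ThE8
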