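import Cfsg.Agent.Lib.ThE8.Run
import Cfsg.Agent.Lib.ThE8.DataP
import Cfsg.Agent.Lib.ThE8.DataW
import Cfsg.Agent.Lib.ThRep.Gens

/-! The generator d in the Chevalley group of type E8. -/

set_option autoImplicit false
set_option maxRecDepth 100000

namespace Cfsg.Agent.ThE8

open Cfsg.Agent.ThRep

theorem segD : segOK matP wordD (mulP matP (invN .d)) = true := by decide +kernel

end Cfsg.Agent.ThE8
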