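import Cfsg.Agent.Lib.ThE8.Step

/-! The packed changes are those of the datum. -/

set_option autoImplicit false
set_option maxRecDepth 100000

namespace Cfsg.Agent.ThE8

open Cfsg.Agent.Chev

theorem items1 : allBelow (fun i => itemsOK (60 + i)) 60 = true := by decide +kernel

end Cfsg.Agent.ThE8
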