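import Cfsg.Agent.Lib.ThE8.Items0
import Cfsg.Agent.Lib.ThE8.Items1
import Cfsg.Agent.Lib.ThE8.Items2
import Cfsg.Agent.Lib.ThE8.Items3
import Cfsg.Agent.Lib.ThE8.DataQ
import Cfsg.Agent.Lib.ThE8.CertA
import Cfsg.Agent.Lib.ThE8.CertB
import Cfsg.Agent.Lib.ThE8.CertC
import Cfsg.Agent.Lib.ThE8.CertD
import Cfsg.Agent.Lib.ThE8.CertE
import Cfsg.Agent.Lib.ThE8.CertS
import Cfsg.Agent.Lib.ThE8.CertT
import Cfsg.Agent.Lib.ThE8.CertU
import Cfsg.Agent.Lib.ThRep.Relators

/-! The Thompson group in the Chevalley group of type E8 over three elements. -/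

set_option autoImplicit false
set_option maxRecDepth 100000

namespace Cfsg.Agent.ThE8

open Cfsg.Agent.ThRep Cfsg.Agent.Chev
open Cfsg.Spor.Th (Gen)

noncomputable section

theorem items_all : ∀ r < 240, itemsOK r = true := by
  intro r hr
  rcases Nat.lt_or_ge r 60 with h | h
  · have := allBelow_eq_true.1 items0 r h; simpa using this
  rcases Nat.lt_or_ge r 120 with h1 | h1
  · have := allBelow_eq_true.1 items1 (r - 60) (by omega)
    rwa [show 60 + (r - 60) = r by omega] at this
  rcases Nat.lt_or_ge r 180 with h2 | h2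
  · have := allBelow_eq_true.1 items2 (r - 120) (by omega)
    rwa [show 120 + (r - 120) = r by omega] at this
  · have := allBelow_eq_true.1 items3 (r - 180) (by omega)
    rwa [show 180 + (r - 180) = r by omega] at this

theorem reach_inv : ∀ x : Gen, Reach matP (mulP matP (invN x))
  | .a => reach_seg items_all segA
  | .b => reach_seg items_all segB
  | .c => reach_seg items_all segC
  | .d => reach_seg items_all segD
  | .e => reach_seg items_all segE
  | .s => reach_seg items_all segS
  | .t => reach_seg items_all segT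
  | .u => reach_seg items_all segU

theorem matP_ok : matOK matP = true := by decide +kernel

theorem matQ_ok : matOK matQ = true := by decide +kernel

theorem matPQ : mulP matP matQ = one := by decide +kernel

theorem matQP : mulP matQ matP = one := by decide +kernel

/-- The change of basis. -/
def uP : M248ˣ where
  val := toM matP
  inv := toM matQ
  val_inv := by rw [← toM_mulP matP_ok matQ_ok, matPQ, toM_one]
  inv_val := by rw [← toM_mulP matQ_ok matP_ok, matQP, toM_one]

/-- The transposed inverse. -/
def dualU : M248ˣ →* M248ˣ where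
  toFun u :=
    { val := (↑u⁻¹ : M248).transpose
      inv := (↑u : M248).transpose
      val_inv := by rw [← Matrix.transpose_mul, Units.mul_inv, Matrix.transpose_one]
      inv_val := by rw [← Matrix.transpose_mul, Units.inv_mul, Matrix.transpose_one] }
  map_one' := Units.ext (by simp)
  map_mul' u w := Units.ext (by simp [Matrix.transpose_mul])

theorem dualU_val (u : M248ˣ) : (dualU u : M248) = (↑u⁻¹ : M248).transpose := rfl

/-- The representation in the basis of the Chevalley algebra, moved to its index type. -/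
def phi : Cfsg.Spor.Th →* GL T.D.Idx (ZMod 3) :=
  ePos.symm.toMonoidHom.comp (dualU.comp ((MulAut.conj uP).toMonoidHom.comp hom))

theorem phi_eq (g : Cfsg.Spor.Th) : ePos (phi g) = dualU (uP * hom g * uP⁻¹) :=
  ePos.apply_symm_apply _

theorem phi_gen (x : Gen) : phi (PresentedGroup.of x) ∈ T.D.group (ZMod 3) := by
  obtain ⟨y, hy, e⟩ := reach_inv x
  suffices phi (PresentedGroup.of x) = y by rwa [this]
  apply ePos.injective
  rw [phi_eq]
  apply Units.ext
  have hx : hom (PresentedGroup.of x) = genU x := by
    rw [PresentedGroup.of, hom_mk, FreeGroup.lift_apply_of]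
  have h : toM matP * toM (invN x) = (ePos y : M248).transpose * toM matP := by
    rw [← toM_mulP matP_ok (isMat_inv x).1, e]
  rw [(isMat_inv x).2] at h
  rw [dualU_val, hx, mul_inv_rev, mul_inv_rev, inv_inv, Units.val_mul, Units.val_mul]
  show (toM matP * ((↑(genU x)⁻¹ : M248) * toM matQ)).transpose = _
  rw [← mul_assoc, h, mul_assoc, show toM matP * toM matQ = 1 from uP.val_inv, mul_one,
    Matrix.transpose_transpose]

theorem phi_mem (g : Cfsg.Spor.Th) : phi g ∈ T.D.group (ZMod 3) := by
  have hle : Subgroup.closure (Set.range (PresentedGroup.of :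
      Gen → Cfsg.Spor.Th)) ≤ (T.D.group (ZMod 3)).comap phi :=
    (Subgroup.closure_le _).2 (by rintro _ ⟨x, rfl⟩; exact phi_gen x)
  rw [PresentedGroup.closure_range_of] at hle
  exact hle (Subgroup.mem_top g)

/-- The homomorphism into the Chevalley group. -/
def thToE8 : Cfsg.Spor.Th →* T.D.group (ZMod 3) := MonoidHom.codRestrict phi (T.D.group (ZMod 3)) phi_mem

theorem invN_u_ne : invN Gen.u ≠ one :=
  Nat.ne_of_beq_eq_false (by decide +kernel)

theorem thToE8_val (g : Cfsg.Spor.Th) : (thToE8 g).val = phi g := rfl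

theorem thToE8_ne_one : ∃ g, thToE8 g ≠ 1 := by
  refine ⟨PresentedGroup.of Gen.u, fun h => invN_u_ne ?_⟩
  have h1 : phi (PresentedGroup.of Gen.u) = 1 := by rw [← thToE8_val, h]; rfl
  have h2 : dualU (uP * hom (PresentedGroup.of Gen.u) * uP⁻¹) = 1 := by rw [← phi_eq, h1, map_one]
  have h3 := congrArg (fun u : M248ˣ => (u : M248).transpose) h2
  simp only [dualU_val, Matrix.transpose_transpose, Units.val_one, Matrix.transpose_one] at h3
  have h4 : (uP * hom (PresentedGroup.of Gen.u) * uP⁻¹)⁻¹ = 1 := Units.ext h3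
  rw [inv_eq_one, mul_inv_eq_one, mul_eq_left] at h4
  have hx : hom (PresentedGroup.of Gen.u) = genU Gen.u := by
    rw [PresentedGroup.of, hom_mk, FreeGroup.lift_apply_of]
  rw [hx] at h4
  refine toM_inj (isMat_inv Gen.u).1 one_matOK ?_
  rw [(isMat_inv Gen.u).2, h4, inv_one, Units.val_one, toM_one]

end

end Cfsg.Agent.ThE8
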