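import Cfsg.Agent.Lib.ThE8.Step

/-!
Matrices of size 248 over three elements as a tree of packed rows, and the root elements acting from the left.
-/

set_option autoImplicit false
set_option maxRecDepth 100000

namespace Cfsg.Agent.ThE8

open Cfsg.Agent.ThRep Cfsg.Agent.Chev Matrix

noncomputable section

/-- Trees of rows. -/
inductive RT where
  | leaf (v : ℕ)
  | node (l r : RT)

/-- All leaves at the given depth. -/
def fullD : RT → ℕ → Bool :=
  RT.rec (motive := fun _ => ℕ → Bool) (fun _ d => Nat.beq d 0)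
    (fun _ _ fl fr d => bif Nat.beq d 0 then false else fl (Nat.sub d 1) && fr (Nat.sub d 1))

/-- A row, the lowest binary digit first. -/
def getT : RT → ℕ → ℕ :=
  RT.rec (motive := fun _ => ℕ → ℕ) (fun v _ => v)
    (fun _ _ gl gr i => bif Nat.beq (Nat.mod i 2) 0 then gl (Nat.div i 2) else gr (Nat.div i 2))

/-- Change one row. -/
def updT (f : ℕ → ℕ) : RT → ℕ → RT :=
  RT.rec (motive := fun _ => ℕ → RT) (fun v _ => RT.leaf (f v))
    (fun l r ul ur i => bif Nat.beq (Nat.mod i 2) 0 then RT.node (ul (Nat.div i 2)) r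
      else RT.node l (ur (Nat.div i 2)))

theorem fullD_node {l r : RT} {d : ℕ} (h : fullD (RT.node l r) d = true) :
    ∃ e, d = e + 1 ∧ fullD l e = true ∧ fullD r e = true := by
  cases d with
  | zero => cases h
  | succ e =>
    change (fullD l e && fullD r e) = true at h
    rw [Bool.and_eq_true] at h
    exact ⟨e, rfl, h⟩

theorem updT_full (f : ℕ → ℕ) : ∀ (T : RT) (d i : ℕ), fullD T d = true → fullD (updT f T i) d = true
  | .leaf _, _, _, h => h
  | .node l r, d, i, h => by
    obtain ⟨e, rfl, h1, h2⟩ := fullD_node h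
    show fullD (bif Nat.beq (i % 2) 0 then RT.node (updT f l (i / 2)) r else RT.node l (updT f r (i / 2)))
      (e + 1) = true
    cases Nat.beq (i % 2) 0
    · show (fullD l e && fullD (updT f r (i / 2)) e) = true
      rw [h1, updT_full f r e _ h2]; rfl
    · show (fullD (updT f l (i / 2)) e && fullD r e) = true
      rw [h2, updT_full f l e _ h1]; rfl

theorem getT_updT (f : ℕ → ℕ) : ∀ (T : RT) (d i k : ℕ), fullD T d = true → i < 2 ^ d → k < 2 ^ d →
    getT (updT f T i) k = if k = i then f (getT T k) else getT T k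
  | .leaf v, d, i, k, h, hi, hk => by
    obtain rfl : d = 0 := Nat.eq_of_beq_eq_true h
    obtain rfl : i = 0 := by simpa using hi
    obtain rfl : k = 0 := by simpa using hk
    rw [if_pos rfl]; rfl
  | .node l r, d, i, k, h, hi, hk => by
    obtain ⟨e, rfl, h1, h2⟩ := fullD_node h
    rw [pow_succ] at hi hk
    have il := getT_updT f l e (i / 2) (k / 2) h1 (by omega) (by omega)
    have ir := getT_updT f r e (i / 2) (k / 2) h2 (by omega) (by omega)
    have eu : updT f (RT.node l r) i =
        bif Nat.beq (i % 2) 0 then RT.node (updT f l (i / 2)) r else RT.node l (updT f r (i / 2)) := rfl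
    have eg : ∀ a b : RT, getT (RT.node a b) k =
        bif Nat.beq (k % 2) 0 then getT a (k / 2) else getT b (k / 2) := fun _ _ => rfl
    have b0 : Nat.beq 0 0 = true := rfl
    have b1 : Nat.beq 1 0 = false := rfl
    rcases Nat.mod_two_eq_zero_or_one i with a | a <;> rcases Nat.mod_two_eq_zero_or_one k with b | b <;>
      simp only [eu, eg, a, b, b0, b1, cond_true, cond_false]
    · rw [il]; exact if_congr (by omega) rfl rfl
    · rw [if_neg (by omega)]
    · rw [if_neg (by omega)]
    · rw [ir]; exact if_congr (by omega) rfl rfl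

/-- The lanes of one row, filled. -/
def rowThree : ℕ := pattern 3 10 248

/-- The lanes of one row, filled with one. -/
def rowOne : ℕ := pattern 1 10 248

/-- Entries at most six, reduced. -/
def red6 (x : ℕ) : ℕ :=
  (fun y => Nat.sub y (Nat.mul 3 (Nat.land (Nat.land y (Nat.shiftRight y 1)) rowOne)))
    (Nat.add (Nat.land x rowThree) (Nat.land (Nat.shiftRight x 2) rowOne))

/-- One change. -/
def addRow (acc old : RT) (p : Item) (t : ℕ) : RT :=
  updT (fun v => red6 (Nat.add v (Nat.mul (coef p.2.2.1 t p.2.2.2) (getT old p.2.1)))) acc p.1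

/-- All the changes. -/
def addRows (old : RT) (t : ℕ) (L : List Item) (acc : RT) : RT :=
  List.rec (motive := fun _ => RT → RT) id (fun p _ ih acc => ih (addRow acc old p t)) L acc

/-- A change of the transposed matrix. -/
def swapI (p : Item) : Item := (p.2.1, p.1, p.2.2)

/-- A transposed root element times a matrix. -/
def stepR (A : RT) (r t : ℕ) : RT := addRows A t ((itemsD r).map swapI) A

/-- The matrix of a tree. -/
def rowsM (A : RT) : M248 := Matrix.of fun i j => (lane (getT A i.1) j.1 : ZMod 3)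

/-- The tree is full and its rows are reduced. -/
def RowsOK (A : RT) : Prop :=
  fullD A 8 = true ∧ ∀ i < 256, ∃ f : ℕ → ℕ, (∀ q, f q < 3) ∧ getT A i = pk f 248

/-- The reduction in one lane. -/
def red61 (x : ℕ) : ℕ :=
  (fun y => y - 3 * (y &&& ((y >>> 1) &&& 1))) ((x &&& 3) + ((x >>> 2) &&& 1))

theorem red61_eq : ∀ x < 7, red61 x = x % 3 := by decide +kernel

theorem red6_pk {f : ℕ → ℕ} (hf : ∀ q < 248, f q < 7) : red6 (pk f 248) = pk (fun q => f q % 3) 248 := by
  have hl : ∀ q < 248, f q < 1024 := fun q hq => (hf q hq).trans (by norm_num)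
  have h3 : rowThree = pk (fun _ => 3) 248 := by rw [rowThree, pattern_lanes]
  have h1 : rowOne = pk (fun _ => 1) 248 := by rw [rowOne, pattern_lanes]
  have e1 : Nat.add (Nat.land (pk f 248) rowThree) (Nat.land (Nat.shiftRight (pk f 248) 2) rowOne) =
      pk (fun q => (f q &&& 3) + ((f q >>> 2) &&& 1)) 248 := by
    rw [h3, h1, and_pk hl fun _ _ => by norm_num, shift_and_pk 2 hl fun _ _ => by norm_num]
    exact pk_add _ _ 248
  set g : ℕ → ℕ := fun q => (f q &&& 3) + ((f q >>> 2) &&& 1) with hg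
  have hgl : ∀ q < 248, g q < 1024 := fun q _ =>
    lt_of_le_of_lt (Nat.add_le_add Nat.and_le_right Nat.and_le_right) (by norm_num)
  rw [red6, e1]
  show pk g 248 - 3 * Nat.land (Nat.land (pk g 248) (Nat.shiftRight (pk g 248) 1)) rowOne = _
  rw [show Nat.land (Nat.land (pk g 248) (Nat.shiftRight (pk g 248) 1)) rowOne =
      Nat.land (pk g 248) (Nat.land (Nat.shiftRight (pk g 248) 1) rowOne) from Nat.and_assoc _ _ _,
    h1, shift_and_pk 1 hgl fun _ _ => by norm_num,
    and_pk hgl fun q _ => lt_of_le_of_lt Nat.and_le_right (by norm_num), mul_pk, pk_sub fun q hq => ?_]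
  · exact pk_congr fun q hq => red61_eq _ (hf q hq)
  · have h := hf q hq
    simp only [hg]
    generalize f q = y at h ⊢
    interval_cases y <;> decide

theorem addRow_spec {acc old : RT} (ha : RowsOK acc) (ho : RowsOK old) {p : Item} (h1 : p.1 < 248)
    (h2 : p.2.1 < 248) (t : ℕ) :
    RowsOK (addRow acc old p t) ∧ ∀ (i j : Fin 248), rowsM (addRow acc old p t) i j =
      rowsM acc i j + (if p.1 = i.val then
        ((p.2.2.1 : ZMod 3) * (t : ZMod 3) ^ p.2.2.2) * rowsM old ⟨p.2.1, h2⟩ j else 0) := by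
  obtain ⟨g, hg, eg⟩ := ho.2 p.2.1 (by omega)
  have hget : ∀ k < 256, getT (addRow acc old p t) k =
      if k = p.1 then red6 (getT acc k + coef p.2.2.1 t p.2.2.2 * getT old p.2.1) else getT acc k := fun k hk =>
    getT_updT _ acc 8 p.1 k ha.1 (show p.1 < 256 by omega) hk
  have hlane : ∀ {f : ℕ → ℕ}, (∀ q, f q < 3) →
      ∀ q < 248, f q + coef p.2.2.1 t p.2.2.2 * g q < 7 := fun {f} hf q _ => by
    have h4 : coef p.2.2.1 t p.2.2.2 * g q ≤ 2 * 2 :=
      Nat.mul_le_mul (Nat.le_of_lt_succ (coef_lt _ _ _)) (Nat.le_of_lt_succ (hg q))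
    have := hf q; omega
  have hrow : ∀ {f : ℕ → ℕ}, (∀ q, f q < 3) → red6 (pk f 248 + coef p.2.2.1 t p.2.2.2 * getT old p.2.1) =
      pk (fun q => (f q + coef p.2.2.1 t p.2.2.2 * g q) % 3) 248 := fun {f} hf => by
    rw [eg, mul_pk, pk_add, red6_pk (hlane hf)]
  refine ⟨⟨updT_full _ acc 8 _ ha.1, fun k hk => ?_⟩, fun i j => ?_⟩
  · obtain ⟨f, hf, ef⟩ := ha.2 k hk
    rw [hget k hk]
    by_cases e : k = p.1
    · rw [if_pos e, ef, hrow hf]
      exact ⟨_, fun q => Nat.mod_lt _ (by norm_num), rfl⟩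
    · rw [if_neg e]; exact ⟨f, hf, ef⟩
  · show (lane (getT (addRow acc old p t) i.1) j.1 : ZMod 3) = (lane (getT acc i.1) j.1 : ZMod 3) + _
    rw [hget i.1 (by have := i.2; omega)]
    by_cases e : i.val = p.1
    · obtain ⟨f, hf, ef⟩ := ha.2 i.1 (by have := i.2; omega)
      rw [if_pos e, if_pos e.symm, ef, hrow hf,
        lane_pk (fun q _ => (Nat.mod_lt _ (by norm_num : 3 > 0)).trans (by norm_num)) j.2,
        lane_pk (fun q _ => (hf q).trans (by norm_num)) j.2, ZMod.natCast_mod, Nat.cast_add, Nat.cast_mul,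
        coef_cast]
      show _ = _ + _ * (lane (getT old p.2.1) j.1 : ZMod 3)
      rw [eg, lane_pk (fun q _ => (hg q).trans (by norm_num)) j.2]
    · rw [if_neg e, if_neg (Ne.symm e), add_zero]

/-- The contribution of the changes to one entry. -/
def change (old : RT) (t : ℕ) (L : List Item) (i j : Fin 248) : ZMod 3 :=
  (L.map fun p => if p.1 = i.val then
    ((p.2.2.1 : ZMod 3) * (t : ZMod 3) ^ p.2.2.2) * (lane (getT old p.2.1) j.1 : ZMod 3) else 0).sum

theorem addRows_spec {old : RT} (ho : RowsOK old) (t : ℕ) : ∀ (L : List Item),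
    (∀ p ∈ L, p.1 < 248 ∧ p.2.1 < 248) → ∀ {acc : RT}, RowsOK acc →
      RowsOK (addRows old t L acc) ∧
        ∀ i j, rowsM (addRows old t L acc) i j = rowsM acc i j + change old t L i j := by
  intro L
  induction L with
  | nil => intro _ acc ha; exact ⟨ha, fun i j => by simp [addRows, change]⟩
  | cons p L ih =>
    intro hL acc ha
    obtain ⟨h1, h2⟩ := hL p List.mem_cons_self
    obtain ⟨s1, s2⟩ := addRow_spec ha ho h1 h2 t
    obtain ⟨r1, r2⟩ := ih (fun q hq => hL q (List.mem_cons_of_mem _ hq)) s1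
    refine ⟨r1, fun i j => ?_⟩
    show rowsM (addRows old t L (addRow acc old p t)) i j = _
    rw [r2, s2, add_assoc]
    simp only [change, List.map_cons, List.sum_cons]
    rfl

theorem sum_mul_item {m : ℕ} {R : Type*} [CommRing R] (g : ℕ → R) (u : R) (i : ℕ) :
    ∀ L : List Item, (∀ p ∈ L, p.2.1 < m) →
      ∑ k : Fin m, (L.map fun p => if p.1 = i ∧ p.2.1 = k.val then
          (p.2.2.1 : R) * u ^ p.2.2.2 else 0).sum * g k.val =
        (L.map fun p => if p.1 = i then ((p.2.2.1 : R) * u ^ p.2.2.2) * g p.2.1 else 0).sum := by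
  intro L
  induction L with
  | nil => intro _; simp
  | cons p L ih =>
    intro hL
    simp only [List.map_cons, List.sum_cons, add_mul, Finset.sum_add_distrib]
    rw [ih fun q hq => hL q (List.mem_cons_of_mem _ hq)]
    congr 1
    have hp := hL p List.mem_cons_self
    rw [Finset.sum_eq_single (⟨p.2.1, hp⟩ : Fin m)]
    · by_cases e : p.1 = i
      · rw [if_pos ⟨e, rfl⟩, if_pos e]
      · rw [if_neg fun h => e h.1, if_neg e, zero_mul]
    · intro k _ hk
      rw [if_neg fun h => hk (Fin.ext h.2.symm), zero_mul]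
    · intro h; exact absurd (Finset.mem_univ _) h

theorem stepR_spec {A : RT} (hA : RowsOK A) {r : ℕ} (hr : r < 240) (hi : itemsOK r = true) (t : ℕ) :
    RowsOK (stepR A r t) ∧ rowsM (stepR A r t) = (xM r t).transpose * rowsM A := by
  have hb : ∀ p ∈ itemsD r, p.1 < 248 ∧ p.2.1 < 248 := by
    have h := hi
    simp only [itemsOK, Bool.and_eq_true, List.all_eq_true, Nat.blt_eq] at h
    exact h.2
  have hb' : ∀ p ∈ (itemsD r).map swapI, p.1 < 248 ∧ p.2.1 < 248 := fun p hp => by
    obtain ⟨q, hq, rfl⟩ := List.mem_map.1 hp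
    exact ⟨(hb q hq).2, (hb q hq).1⟩
  obtain ⟨h1, h2⟩ := addRows_spec hA t ((itemsD r).map swapI) hb' hA
  refine ⟨h1, ?_⟩
  ext i j
  have hx : ∀ k : Fin 248, (xM r t).transpose i k = (if i = k then 1 else 0) +
      (((itemsD r).map swapI).map fun p => if p.1 = i.val ∧ p.2.1 = k.val then
        (p.2.2.1 : ZMod 3) * (t : ZMod 3) ^ p.2.2.2 else 0).sum := fun k => by
    rw [Matrix.transpose_apply, xM_items hr hi, List.map_map]
    refine congrArg₂ (· + ·) (by simp only [eq_comm]) (congrArg List.sum (List.map_congr_left fun p _ => ?_))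
    exact if_congr and_comm rfl rfl
  rw [Matrix.mul_apply]
  show rowsM (addRows A t ((itemsD r).map swapI) A) i j = _
  rw [h2]
  simp only [hx, add_mul, Finset.sum_add_distrib, ite_mul, one_mul, zero_mul,
    Finset.sum_ite_eq, Finset.mem_univ, if_true]
  exact congrArg (rowsM A i j + ·)
    (sum_mul_item (fun n => (lane (getT A n) j.1 : ZMod 3)) (t : ZMod 3) i.val ((itemsD r).map swapI)
      fun p hp => (hb' p hp).2).symm

end

end Cfsg.Agent.ThE8
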