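import Cfsg.Agent.Lib.ThE8.Rows

/-! Words in the root elements, evaluated on trees of rows. -/

set_option autoImplicit false
set_option maxRecDepth 100000

namespace Cfsg.Agent.ThE8

open Cfsg.Agent.ThRep Cfsg.Agent.Chev Matrix

noncomputable section

/-- A row of a packed matrix. -/
def rowAt (A i : ℕ) : ℕ := Nat.land (Nat.shiftRight A (Nat.mul 2480 i)) rowMask

/-- The tree of the rows `o`, `o + s`, …. -/
def mkT (A d : ℕ) : ℕ → ℕ → RT :=
  Nat.rec (motive := fun _ => ℕ → ℕ → RT) (fun o _ => RT.leaf (rowAt A o))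
    (fun _ ih o s => RT.node (ih o (Nat.mul 2 s)) (ih (Nat.add o s) (Nat.mul 2 s))) d

/-- The tree of a packed matrix. -/
def ofMat (A : ℕ) : RT := mkT A 8 0 1

/-- The tree is the packed matrix. -/
def eqMat (R : RT) (B : ℕ) : Bool := allBelow (fun i => Nat.beq (getT R i) (rowAt B i)) 248

theorem mkT_full (A : ℕ) : ∀ d o s, fullD (mkT A d o s) d = true
  | 0, _, _ => rfl
  | d + 1, o, s => by
    show (fullD (mkT A d o (2 * s)) d && fullD (mkT A d (o + s) (2 * s)) d) = true
    rw [mkT_full, mkT_full]; rfl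

theorem getT_mkT (A : ℕ) : ∀ d o s k, k < 2 ^ d → getT (mkT A d o s) k = rowAt A (o + k * s)
  | 0, o, s, k, hk => by
    obtain rfl : k = 0 := by simpa using hk
    show rowAt A o = _
    rw [Nat.zero_mul, Nat.add_zero]
  | d + 1, o, s, k, hk => by
    rw [pow_succ] at hk
    show (bif Nat.beq (k % 2) 0 then getT (mkT A d o (2 * s)) (k / 2)
      else getT (mkT A d (o + s) (2 * s)) (k / 2)) = _
    rw [getT_mkT A d o (2 * s) (k / 2) (by omega), getT_mkT A d (o + s) (2 * s) (k / 2) (by omega)]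
    rcases Nat.mod_two_eq_zero_or_one k with e | e <;> rw [e]
    · show rowAt A (o + k / 2 * (2 * s)) = _
      rw [← Nat.mul_assoc, show k / 2 * 2 = k by omega]
    · show rowAt A (o + s + k / 2 * (2 * s)) = _
      rw [← Nat.mul_assoc, Nat.add_assoc, show k = k / 2 * 2 + 1 by omega, Nat.add_mul, Nat.one_mul,
        show (k / 2 * 2 + 1) / 2 = k / 2 by omega, Nat.add_comm s]

theorem getT_ofMat (A : ℕ) {k : ℕ} (hk : k < 256) : getT (ofMat A) k = rowAt A k := by
  rw [ofMat, getT_mkT A 8 0 1 k (show k < 2 ^ 8 from hk), Nat.zero_add, Nat.mul_one]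

theorem rowAt_eq {A : ℕ} (hA : matOK A = true) (i : ℕ) :
    rowAt A i = pk (fun q => lane A (i * 248 + q)) 248 := by
  obtain ⟨hA1, _⟩ := matOK_spec hA
  have h0 : ∀ q, entries ≤ q → lane A q = 0 := fun q hq => by
    rw [lane, Nat.div_eq_of_lt (lt_of_lt_of_le hA1 (Nat.pow_le_pow_right (by norm_num) (by omega)))]
  conv_lhs => rw [rowAt, eq_pk_lane hA1]
  exact rowPart (lane_lt A) h0 i rfl

theorem ofMat_ok {A : ℕ} (hA : matOK A = true) : RowsOK (ofMat A) := by
  refine ⟨mkT_full A 8 0 1, fun i hi => ⟨fun q => lane A (i * 248 + q), fun q => (matOK_spec hA).2 _, ?_⟩⟩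
  rw [getT_ofMat A hi, rowAt_eq hA]

theorem rowsM_of_rows {R : RT} {B : ℕ} (hB : matOK B = true) (h : ∀ i < 248, getT R i = rowAt B i) :
    rowsM R = toM B := by
  ext i j
  show (lane (getT R i.1) j.1 : ZMod 3) = (lane B (i.1 * 248 + j.1) : ZMod 3)
  rw [h i.1 i.2, rowAt_eq hB, lane_pk (fun q _ => lane_lt B _) j.2]

theorem rowsM_ofMat {A : ℕ} (hA : matOK A = true) : rowsM (ofMat A) = toM A :=
  rowsM_of_rows hA fun i hi => getT_ofMat A (by omega)

/-- The transposed root elements of a word, the head first, times a matrix. -/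
def runR (A : RT) (w : List (ℕ × ℕ)) : RT :=
  List.rec (motive := fun _ => RT) A (fun p _ ih => stepR ih p.1 p.2) w

/-- The roots of a word are in range. -/
def rootsOK (w : List (ℕ × ℕ)) : Bool := w.all fun p => Nat.blt p.1 240

/-- The word times `A` is `B`. -/
def segOK (A : ℕ) (w : List (ℕ × ℕ)) (B : ℕ) : Bool :=
  matOK A && matOK B && rootsOK w && eqMat (runR (ofMat A) w) B

/-- A root element as an element of the Chevalley group. -/
def xe (r t : ℕ) : GL T.D.Idx (ZMod 3) := Tab.xg (F := ZMod 3) E8Data.good r (t : ZMod 3)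

theorem xe_mem (r t : ℕ) : xe r t ∈ T.D.group (ZMod 3) :=
  Tab.xg_mem_group (T := T) E8Data.good r _

/-- The positions as an isomorphism of matrix algebras. -/
def eAlg : Matrix T.D.Idx T.D.Idx (ZMod 3) ≃ₐ[ZMod 3] M248 := Matrix.reindexAlgEquiv (ZMod 3) (ZMod 3) eIdx

/-- The group of the datum moved to positions. -/
def ePos : GL T.D.Idx (ZMod 3) ≃* M248ˣ := Units.mapEquiv eAlg.toMulEquiv

theorem ePos_xe (r t : ℕ) : (ePos (xe r t) : M248) = xM r t := rfl

theorem runR_spec (hall : ∀ r < 240, itemsOK r = true) : ∀ (w : List (ℕ × ℕ)), (∀ p ∈ w, p.1 < 240) →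
    ∀ {A : RT}, RowsOK A →
      ∃ x ∈ T.D.group (ZMod 3), RowsOK (runR A w) ∧ rowsM (runR A w) = (ePos x : M248).transpose * rowsM A := by
  intro w
  induction w with
  | nil => intro _ A hA; exact ⟨1, one_mem _, hA, by
    rw [map_one, Units.val_one, Matrix.transpose_one, one_mul]; rfl⟩
  | cons p w ih =>
    intro hw A hA
    obtain ⟨x, hx, h1, h2⟩ := ih (fun q hq => hw q (List.mem_cons_of_mem _ hq)) hA
    have hp := hw p List.mem_cons_self
    obtain ⟨h3, h4⟩ := stepR_spec h1 hp (hall _ hp) p.2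
    refine ⟨x * xe p.1 p.2, mul_mem hx (xe_mem _ _), h3, ?_⟩
    show rowsM (stepR (runR A w) p.1 p.2) = _
    rw [h4, h2, map_mul, Units.val_mul, Matrix.transpose_mul, ePos_xe, mul_assoc]

/-- `B` is a transposed element of the group times `A`. -/
def Reach (A B : ℕ) : Prop :=
  ∃ x ∈ T.D.group (ZMod 3), toM B = (ePos x : M248).transpose * toM A

theorem reach_seg (hall : ∀ r < 240, itemsOK r = true) {A : ℕ} {w : List (ℕ × ℕ)} {B : ℕ}
    (h : segOK A w B = true) : Reach A B := by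
  simp only [segOK, eqMat, rootsOK, Bool.and_eq_true, List.all_eq_true, Nat.blt_eq] at h
  obtain ⟨⟨⟨hA, hB⟩, hw⟩, he⟩ := h
  obtain ⟨x, hx, _, e⟩ := runR_spec hall w hw (ofMat_ok hA)
  refine ⟨x, hx, ?_⟩
  rw [← rowsM_ofMat hA, ← e]
  exact (rowsM_of_rows hB fun i hi => Nat.eq_of_beq_eq_true (allBelow_eq_true.1 he i hi)).symm

theorem Reach.trans {A B C : ℕ} (h : Reach A B) (h' : Reach B C) : Reach A C := by
  obtain ⟨x, hx, e⟩ := h
  obtain ⟨y, hy, e'⟩ := h'
  exact ⟨x * y, mul_mem hx hy, by rw [e', e, map_mul, Units.val_mul, Matrix.transpose_mul, mul_assoc]⟩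

end

end Cfsg.Agent.ThE8
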