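import Cfsg.Agent.Lib.ThRep.Base
import Cfsg.Agent.Lib.ThE8.ItemsData
import Cfsg.Agent.Lib.Lie.ChevEngine
import Cfsg.Agent.Lib.Lie.ChevGroup
import Cfsg.Agent.Lib.Lie.TabE8

/-!
The root elements of the Chevalley group of type E8 over three elements as matrices of size 248.
-/

set_option autoImplicit false
set_option maxRecDepth 100000

namespace Cfsg.Agent.ThE8

open Cfsg.Agent.ThRep Cfsg.Agent.Chev Matrix

noncomputable section

/-- The tables of type E8. -/
abbrev T : Tab := E8Data.tab

/-- The power, kept primitive recursive. -/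
def tpow (t : ℕ) : ℕ → ℕ := Nat.rec 1 (fun _ r => Nat.mul r t)

/-- The coefficient of an item modulo three. -/
def coef (c : ℤ) (t d : ℕ) : ℕ := ((c * (tpow t d : ℕ)) % 3).toNat

theorem tpow_eq (t : ℕ) : ∀ d, tpow t d = t ^ d
  | 0 => rfl
  | d + 1 => by show tpow t d * t = _; rw [tpow_eq t d, pow_succ]

theorem coef_lt (c : ℤ) (t d : ℕ) : coef c t d < 3 := by
  unfold coef; omega

theorem coef_cast (c : ℤ) (t d : ℕ) : (coef c t d : ZMod 3) = (c : ZMod 3) * (t : ZMod 3) ^ d := by
  rw [coef, ← Int.cast_natCast, Int.toNat_of_nonneg (Int.emod_nonneg _ (by norm_num)), tpow_eq]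
  rw [show (((c * (t ^ d : ℕ)) % 3 : ℤ) : ZMod 3) = ((c * (t ^ d : ℕ) : ℤ) : ZMod 3) from
    ZMod.intCast_mod _ 3]
  push_cast; rfl

theorem xcol_cons (r : ℕ) {j : ℕ} (hj : j < 248) : T.xcol r j = (j, 1, 0) :: (T.xcol r j).tail := by
  unfold Tab.xcol
  rw [show Nat.blt j (Nat.add T.l T.n) = true from Nat.blt_eq ▸ (show j < Nat.add T.l T.n from hj)]
  cases Nat.blt j T.l <;> cases Nat.beq j (T.ix r) <;> cases Nat.beq j (T.ix (T.neg r)) <;> rfl

/-- The positions of the basis vectors. -/
def eIdx : T.D.Idx ≃ Fin 248 := finSumFinEquiv.trans (finCongr rfl)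

theorem eIdx_code : ∀ a : T.D.Idx, (eIdx a).val = T.code a
  | Sum.inl _ => rfl
  | Sum.inr _ => rfl

/-- The matrix of a root element on positions. -/
def xM (r t : ℕ) : M248 := (T.D.x (ZMod 3) r (t : ZMod 3)).submatrix eIdx.symm eIdx.symm

theorem xM_apply {r : ℕ} (hr : r < 240) (t : ℕ) (i j : Fin 248) :
    xM r t i j = ((T.xcol r j.val).map fun q =>
      if i.val = q.1 then (q.2.1 : ZMod 3) * (t : ZMod 3) ^ q.2.2 else 0).sum := by
  obtain ⟨a, rfl⟩ := eIdx.surjective i
  obtain ⟨b, rfl⟩ := eIdx.surjective j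
  have h := congrFun (Tab.x_mulVec_bas E8Data.good (T := T) (F := ZMod 3) (r := r) hr (t : ZMod 3) (T.code b)) a
  rw [Tab.colVal_apply, Tab.bas_code E8Data.good, Matrix.mulVec_single_one] at h
  rw [eIdx_code, eIdx_code, xM, Matrix.submatrix_apply, Equiv.symm_apply_apply, Equiv.symm_apply_apply]
  exact h

/-- One change: row, source row, coefficient, degree. -/
abbrev Item : Type := ℕ × ℕ × ℤ × ℕ

/-- Decode a packed change. -/
def dec (c : ℕ) : Item :=
  (Nat.div c 16384, Nat.mod (Nat.div c 64) 256, Int.ofNat (Nat.mod (Nat.div c 4) 16) - 8, Nat.mod c 4)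

/-- The changes of a root element. -/
def itemsD (r : ℕ) : List Item := (itemsPk r).map dec

/-- The nonzero entries of the root element away from the identity, from the columns. -/
def flatItems (r : ℕ) : List Item :=
  (listBelow (fun j => ((T.xcol r j).tail.filter fun q => q.2.1 != 0).map fun q => (q.1, j, q.2.1, q.2.2))
    248).flatten

/-- Equality of changes. -/
def itemBeq : List Item → List Item → Bool
  | [], [] => true
  | a :: l, b :: m => Nat.beq a.1 b.1 && Nat.beq a.2.1 b.2.1 && a.2.2.1 == b.2.2.1 && Nat.beq a.2.2.2 b.2.2.2 &&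
      itemBeq l m
  | _, _ => false

theorem itemBeq_eq : ∀ {l m : List Item}, itemBeq l m = true → l = m
  | [], [], _ => rfl
  | [], _ :: _, h => by simp [itemBeq] at h
  | _ :: _, [], h => by simp [itemBeq] at h
  | (a1, a2, a3, a4) :: l, (b1, b2, b3, b4) :: m, h => by
    simp only [itemBeq, Bool.and_eq_true, Nat.beq_eq, beq_iff_eq] at h
    obtain ⟨⟨⟨⟨rfl, rfl⟩, rfl⟩, rfl⟩, h5⟩ := h
    rw [itemBeq_eq h5]

/-- The packed changes are those of the root element and stay inside the matrix. -/
def itemsOK (r : ℕ) : Bool :=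
  itemBeq (itemsD r) (flatItems r) && (itemsD r).all (fun p => Nat.blt p.1 248 && Nat.blt p.2.1 248)

theorem sum_filter_ne {α R : Type*} [AddCommMonoid R] (f : α → R) (p : α → Bool) :
    ∀ L : List α, (∀ a ∈ L, p a = false → f a = 0) → ((L.filter p).map f).sum = (L.map f).sum
  | [], _ => rfl
  | a :: L, h => by
    have ih := sum_filter_ne f p L fun b hb => h b (List.mem_cons_of_mem _ hb)
    cases hp : p a
    · rw [List.filter_cons_of_neg (by simp [hp]), List.map_cons, List.sum_cons, h a List.mem_cons_self hp, ih,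
        zero_add]
    · rw [List.filter_cons_of_pos hp, List.map_cons, List.map_cons, List.sum_cons, List.sum_cons, ih]

theorem sum_flatten_map {α R : Type*} [AddCommMonoid R] (f : α → R) :
    ∀ L : List (List α), (L.flatten.map f).sum = (L.map fun l => (l.map f).sum).sum
  | [] => rfl
  | l :: L => by
    rw [List.flatten_cons, List.map_append, List.sum_append, sum_flatten_map f L, List.map_cons, List.sum_cons]

theorem sum_items (F : ℕ → List (ℕ × ℤ × ℕ)) {R : Type*} [CommRing R] (u : R) (i j n : ℕ) (hj : j < n) :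
    ((((List.range n).map fun k => ((F k).filter fun q => q.2.1 != 0).map fun q =>
      (q.1, k, q.2.1, q.2.2)).flatten).map fun p : Item =>
        if p.1 = i ∧ p.2.1 = j then (p.2.2.1 : R) * u ^ p.2.2.2 else 0).sum =
      ((F j).map fun q => if i = q.1 then (q.2.1 : R) * u ^ q.2.2 else 0).sum := by
  rw [sum_flatten_map, List.map_map]
  refine Eq.trans ?_ ((Tab.sum_map_ite_range (fun k => ((F k).map fun q =>
      if i = q.1 then (q.2.1 : R) * u ^ q.2.2 else 0).sum) n j).trans (if_pos hj))
  refine congrArg List.sum (List.map_congr_left fun k _ => ?_)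
  simp only [Function.comp_apply, List.map_map]
  by_cases hk : j = k
  · subst hk
    rw [if_pos rfl, sum_filter_ne]
    · refine congrArg List.sum (List.map_congr_left fun q _ => ?_)
      simp [eq_comm]
    · intro q _ hq
      have : q.2.1 = 0 := by simpa using hq
      simp [this]
  · rw [if_neg hk]
    refine List.sum_eq_zero fun x hx => ?_
    obtain ⟨q, _, rfl⟩ := List.mem_map.1 hx
    exact if_neg fun h => hk h.2.symm

theorem flatItems_eq (r : ℕ) : flatItems r = ((List.range 248).map fun j =>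
    ((T.xcol r j).tail.filter fun q => q.2.1 != 0).map fun q => (q.1, j, q.2.1, q.2.2)).flatten :=
  congrArg List.flatten (listBelow_eq _ 248)

/-- The entries of a root element from its changes. -/
theorem xM_items {r : ℕ} (hr : r < 240) (hOK : itemsOK r = true) (t : ℕ) (i j : Fin 248) :
    xM r t i j = (if i = j then 1 else 0) +
      ((itemsD r).map fun p => if p.1 = i.val ∧ p.2.1 = j.val then
        (p.2.2.1 : ZMod 3) * (t : ZMod 3) ^ p.2.2.2 else 0).sum := by
  simp only [itemsOK, Bool.and_eq_true] at hOK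
  rw [itemBeq_eq hOK.1, flatItems_eq,
    sum_items (fun k => (T.xcol r k).tail) (t : ZMod 3) i.val j.val 248 j.2,
    xM_apply hr, xcol_cons r j.2, List.map_cons, List.sum_cons]
  refine congrArg₂ (· + ·) ?_ rfl
  simp [Fin.ext_iff]

end

end Cfsg.Agent.ThE8
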